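import Groth.Agent.G0Patch.BLDesc
import Groth.Prelude.Def_NonAbH2
import Mathlib.AlgebraicGeometry.Sites.Fpqc
import Mathlib.CategoryTheory.Monoidal.Cartesian.Over

/-!
# Beauville-Laszlo gluing of two trivial torsors along a point of the overlap

`X` is an object over `S = Spec A` with trivialisations over the completion piece `S'` and the open
piece `S₁`, differing on the overlap by right translation by `g`.
-/

set_option autoImplicit false
set_option backward.isDefEq.respectTransparency false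
set_option backward.isDefEq.respectTransparency.types false

universe u

open CategoryTheory MonoidalCategory CartesianMonoidalCategory MonObj GrpObj AlgebraicGeometry
open CategoryTheory.Limits

noncomputable section

namespace Groth.Agent.BLTorsor

open Groth.Agent.G0Patch

variable {A A' : Type u} [CommRing A] [CommRing A'] (φ : A →+* A') (t : A)

/-- The completion piece. -/
abbrev S' : Over (Spec (CommRingCat.of A)) := Over.mk (sp φ)

/-- The open piece. -/
abbrev S₁ : Over (Spec (CommRingCat.of A)) := Over.mk (BLData.jt t)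

/-- The overlap. -/
abbrev L : Over (Spec (CommRingCat.of A)) :=
  Over.mk (sp (algebraMap A' (Localization.Away (φ t))) ≫ sp φ)

/-- The overlap in the completion piece. -/
abbrev νc : L φ t ⟶ S' φ := Over.homMk (sp (algebraMap A' (Localization.Away (φ t))))

/-- The overlap in the open piece. -/
abbrev νo : L φ t ⟶ S₁ t := Over.homMk (sp (Localization.awayMap φ t)) (by
  show sp _ ≫ sp _ = sp _ ≫ sp _
  rw [← Spec.map_comp, ← Spec.map_comp, ← CommRingCat.ofHom_comp, ← CommRingCat.ofHom_comp,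
    locMap_comp'])

variable {φ t}

/-- Morphisms out of a flat object glue. -/
theorem exists_glue (D : BLData φ t) {W X : Over (Spec (CommRingCat.of A))} [Flat W.hom]
    (u : W ⊗ S' φ ⟶ X) (h : W ⊗ S₁ t ⟶ X)
    (hc : ∀ {T : Over (Spec (CommRingCat.of A))} (x : T ⟶ W) (w : T ⟶ L φ t),
      lift x (w ≫ νc φ t) ≫ u = lift x (w ≫ νo φ t) ≫ h) :
    ∃ k : W ⟶ X, fst W (S' φ) ≫ k = u ∧ fst W (S₁ t) ≫ k = h := by
  haveI : Mono (BLData.jt t) := by
    have : IsOpenImmersion (BLData.jt t) := IsOpenImmersion.of_isLocalization t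
    infer_instance
  obtain ⟨k, hk₁, hk₂⟩ := D.exists_desc W.hom (Y := X.left) u.left h.left
    fun {Z} z₁ z₂ w h₀ h₁ h₂ => by
      have hz : (z₁ ≫ pullback.fst W.hom (sp φ)) ≫ W.hom =
          w ≫ sp (algebraMap A' (Localization.Away (φ t))) ≫ sp φ := by
        rw [Category.assoc, pullback.condition, reassoc_of% h₁]
      let T : Over (Spec (CommRingCat.of A)) := Over.mk ((z₁ ≫ pullback.fst W.hom (sp φ)) ≫ W.hom)
      let x : T ⟶ W := Over.homMk (z₁ ≫ pullback.fst W.hom (sp φ))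
      let w' : T ⟶ L φ t := Over.homMk w hz.symm
      have e₁ : (lift x (w' ≫ νc φ t)).left = z₁ := pullback.hom_ext
        ((congrArg CommaMorphism.left (lift_fst x (w' ≫ νc φ t)) :).trans rfl)
        ((congrArg CommaMorphism.left (lift_snd x (w' ≫ νc φ t)) :).trans h₁.symm)
      have e₂ : (lift x (w' ≫ νo φ t)).left = z₂ := pullback.hom_ext
        ((congrArg CommaMorphism.left (lift_fst x (w' ≫ νo φ t)) :).trans h₀)
        ((congrArg CommaMorphism.left (lift_snd x (w' ≫ νo φ t)) :).trans h₂.symm)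
      have := congrArg CommaMorphism.left (hc x w')
      exact ((congrArg (· ≫ u.left) e₁).symm.trans (this.trans (congrArg (· ≫ h.left) e₂)) :)
  have hkw : k ≫ X.hom = W.hom := by
    refine D.hom_ext W.hom _ _ ?_ ?_
    · rw [← Category.assoc, hk₁]
      exact Over.w u
    · rw [← Category.assoc, hk₂]
      exact Over.w h
  exact ⟨Over.homMk k hkw, Over.OverMorphism.ext hk₁, Over.OverMorphism.ext hk₂⟩

/-- Morphisms out of a flat object are determined by the pieces. -/
theorem hom_ext (D : BLData φ t) {W X : Over (Spec (CommRingCat.of A))} [Flat W.hom] (f g : W ⟶ X)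
    (h₁ : fst W (S' φ) ≫ f = fst W (S' φ) ≫ g) (h₂ : fst W (S₁ t) ≫ f = fst W (S₁ t) ≫ g) : f = g :=
  Over.OverMorphism.ext (D.hom_ext W.hom f.left g.left (congrArg CommaMorphism.left h₁)
    (congrArg CommaMorphism.left h₂))

variable {G X : Over (Spec (CommRingCat.of A))} [GrpObj G]

/-- A trivialisation of `X` over a piece `P`. -/
structure Triv (G X P : Over (Spec (CommRingCat.of A))) where
  /-- The map. -/
  α : G ⊗ P ⟶ X
  iso : IsIso (lift α (snd G P))

namespace Triv

variable {P : Over (Spec (CommRingCat.of A))} (a : Triv G X P)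

/-- The inverse trivialisation. -/
def δ : X ⊗ P ⟶ G :=
  haveI := a.iso
  inv (lift a.α (snd G P)) ≫ fst G P

omit [GrpObj G] in
theorem δ_α {T : Over (Spec (CommRingCat.of A))} (y : T ⟶ X) (s : T ⟶ P) :
    lift (lift y s ≫ a.δ) s ≫ a.α = y := by
  haveI := a.iso
  have h2 : lift y s ≫ inv (lift a.α (snd G P)) ≫ snd G P = s := by
    rw [show inv (lift a.α (snd G P)) ≫ snd G P = snd X P by simp [IsIso.inv_comp_eq, lift_snd]]
    simp
  have h : lift (lift y s ≫ a.δ) s = lift y s ≫ inv (lift a.α (snd G P)) := by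
    apply CartesianMonoidalCategory.hom_ext
    · simp [δ, lift_fst]
    · rw [lift_snd, Category.assoc, h2]
  rw [h, Category.assoc, show inv (lift a.α (snd G P)) ≫ a.α = fst X P by simp [IsIso.inv_comp_eq, lift_fst]]
  simp

omit [GrpObj G] in
theorem α_δ {T : Over (Spec (CommRingCat.of A))} (x : T ⟶ G) (s : T ⟶ P) :
    lift (lift x s ≫ a.α) s ≫ a.δ = x := by
  haveI := a.iso
  have h : lift (lift x s ≫ a.α) s = lift x s ≫ lift a.α (snd G P) := by simp [comp_lift]
  rw [h, Category.assoc, δ, IsIso.hom_inv_id_assoc, lift_fst]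

end Triv

variable [Flat G.hom] [Flat X.hom] [LocallyOfFinitePresentation X.hom] [Surjective X.hom]

set_option maxHeartbeats 800000 in
/-- The glued object is a torsor, and a section of it splits `g`. -/
theorem exists_torsor (D : BLData φ t) (a : Triv G X (S' φ)) (b : Triv G X (S₁ t)) (g : L φ t ⟶ G)
    (hab : ∀ {T : Over (Spec (CommRingCat.of A))} (x : T ⟶ G) (w : T ⟶ L φ t),
      lift x (w ≫ νc φ t) ≫ a.α = lift (x * (w ≫ g)) (w ≫ νo φ t) ≫ b.α) :
    ∃ act : AlgGrp.Action G X, NonAbH1.IsTorsorFor Scheme.fppfPrecoverage act ∧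
      ∀ s : 𝟙_ (Over (Spec (CommRingCat.of A))) ⟶ X, ∃ (g₁ : S₁ t ⟶ G) (g₂ : S' φ ⟶ G),
        g = (νc φ t ≫ g₂) * (νo φ t ≫ g₁) := by
  have hδ : ∀ {T : Over (Spec (CommRingCat.of A))} (y : T ⟶ X) (w : T ⟶ L φ t),
      lift y (w ≫ νo φ t) ≫ b.δ = (lift y (w ≫ νc φ t) ≫ a.δ) * (w ≫ g) := fun {T} y w => by
    conv_lhs => rw [← a.δ_α y (w ≫ νc φ t), hab, b.α_δ]
  haveI hflat₂ : ∀ Y : Over (Spec (CommRingCat.of A)), ∀ [Flat Y.hom], Flat (Y ⊗ X).hom := fun Y _ => by
    show Flat (pullback.fst Y.hom X.hom ≫ Y.hom)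
    infer_instance
  haveI : Flat (G ⊗ X).hom := hflat₂ G
  haveI : Flat (X ⊗ X).hom := hflat₂ X
  haveI : Flat (G ⊗ G).hom := by
    show Flat (pullback.fst G.hom G.hom ≫ G.hom)
    infer_instance
  haveI : Flat ((G ⊗ G) ⊗ X).hom := hflat₂ (G ⊗ G)
  haveI : Flat (𝟙_ (Over (Spec (CommRingCat.of A))) ⊗ X).hom := by
    haveI : Flat (𝟙_ (Over (Spec (CommRingCat.of A)))).hom := by
      show Flat (𝟙 _)
      infer_instance
    exact hflat₂ _
  -- the action
  let uact : (G ⊗ X) ⊗ S' φ ⟶ X := lift ((fst _ _ ≫ fst G X) *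
    (lift (fst _ _ ≫ snd G X) (snd _ _) ≫ a.δ)) (snd _ _) ≫ a.α
  let hact : (G ⊗ X) ⊗ S₁ t ⟶ X := lift ((fst _ _ ≫ fst G X) *
    (lift (fst _ _ ≫ snd G X) (snd _ _) ≫ b.δ)) (snd _ _) ≫ b.α
  have hu : ∀ {T : Over (Spec (CommRingCat.of A))} (γ : T ⟶ G) (y : T ⟶ X) (s : T ⟶ S' φ),
      lift (lift γ y) s ≫ uact = lift (γ * (lift y s ≫ a.δ)) s ≫ a.α := by
    intros
    simp [uact, comp_lift_assoc, comp_mul, lift_fst, lift_snd, lift_fst_assoc]
  have hh : ∀ {T : Over (Spec (CommRingCat.of A))} (γ : T ⟶ G) (y : T ⟶ X) (s : T ⟶ S₁ t),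
      lift (lift γ y) s ≫ hact = lift (γ * (lift y s ≫ b.δ)) s ≫ b.α := by
    intros
    simp [hact, comp_lift_assoc, comp_mul, lift_fst, lift_snd, lift_fst_assoc]
  obtain ⟨act, ha, hb⟩ := exists_glue D uact hact fun {T} x w => by
    rw [← lift_fst_snd (X := G) (Y := X) |> fun e => (congrArg (x ≫ ·) e).trans (Category.comp_id x),
      comp_lift, hu, hh, hab, hδ, _root_.mul_assoc]
  have hactu : ∀ {T : Over (Spec (CommRingCat.of A))} (γ : T ⟶ G) (y : T ⟶ X) (s : T ⟶ S' φ),
      lift γ y ≫ act = lift (γ * (lift y s ≫ a.δ)) s ≫ a.α := fun {T} γ y s => by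
    rw [← hu, ← ha, lift_fst_assoc]
  have hacth : ∀ {T : Over (Spec (CommRingCat.of A))} (γ : T ⟶ G) (y : T ⟶ X) (s : T ⟶ S₁ t),
      lift γ y ≫ act = lift (γ * (lift y s ≫ b.δ)) s ≫ b.α := fun {T} γ y s => by
    rw [← hh, ← hb, lift_fst_assoc]
  -- division
  let ud : (X ⊗ X) ⊗ S' φ ⟶ G := (lift (fst _ _ ≫ fst X X) (snd _ _) ≫ a.δ) *
    (lift (fst _ _ ≫ snd X X) (snd _ _) ≫ a.δ)⁻¹
  let hd : (X ⊗ X) ⊗ S₁ t ⟶ G := (lift (fst _ _ ≫ fst X X) (snd _ _) ≫ b.δ) *
    (lift (fst _ _ ≫ snd X X) (snd _ _) ≫ b.δ)⁻¹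
  obtain ⟨d, hda, hdb⟩ := exists_glue D ud hd fun {T} x w => by
    simp only [ud, hd, comp_mul, comp_inv, comp_lift_assoc, lift_fst_assoc, lift_snd]
    rw [hδ, hδ, _root_.mul_inv_rev, ← _root_.mul_assoc, _root_.mul_inv_cancel_right]
  let inst : AlgGrp.Action G X :=
    { act := act
      one_act := by
        have e : η[G] ▷ X = lift (toUnit _ ≫ η[G]) (snd _ X) := by
          apply CartesianMonoidalCategory.hom_ext
          · simp only [whiskerRight_fst, lift_fst]
            exact congrArg (· ≫ η[G]) (toUnit_unique _ _)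
          · simp
        rw [e, leftUnitor_hom]
        refine hom_ext D _ _ ?_ ?_
        · rw [comp_lift_assoc, hactu _ _ (snd _ _)]
          have h1 : fst (𝟙_ (Over (Spec (CommRingCat.of A))) ⊗ X) (S' φ) ≫ toUnit _ ≫ η[G] = 1 := by
            rw [← Category.assoc, Hom.one_def, toUnit_unique (_ ≫ toUnit _) (toUnit _)]
          rw [h1, _root_.one_mul, a.δ_α]
        · rw [comp_lift_assoc, hacth _ _ (snd _ _)]
          have h1 : fst (𝟙_ (Over (Spec (CommRingCat.of A))) ⊗ X) (S₁ t) ≫ toUnit _ ≫ η[G] = 1 := by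
            rw [← Category.assoc, Hom.one_def, toUnit_unique (_ ≫ toUnit _) (toUnit _)]
          rw [h1, _root_.one_mul, b.δ_α]
      mul_act := by
        have e1 : μ[G] ▷ X = lift (fst _ X ≫ μ[G]) (snd _ X) := by
          apply CartesianMonoidalCategory.hom_ext <;> simp
        have e2 : (α_ G G X).hom ≫ (G ◁ act) = lift (fst _ X ≫ fst G G)
            (lift (fst _ X ≫ snd G G) (snd _ X) ≫ act) := by
          apply CartesianMonoidalCategory.hom_ext
          · simp
          · rw [Category.assoc, whiskerLeft_snd, lift_snd, ← Category.assoc]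
            congr 1
            apply CartesianMonoidalCategory.hom_ext <;> simp
        have hμ : (μ[G] : G ⊗ G ⟶ G) = fst G G * snd G G := by
          rw [Hom.mul_def, lift_fst_snd, Category.id_comp]
        rw [← Category.assoc ((α_ G G X).hom), e1, e2, hμ]
        refine hom_ext D _ _ ?_ ?_
        · simp only [comp_lift_assoc, comp_mul]
          rw [hactu _ _ (snd _ _), hactu _ _ (snd _ _), hactu _ _ (snd _ _), a.α_δ, _root_.mul_assoc]
        · simp only [comp_lift_assoc, comp_mul]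
          rw [hacth _ _ (snd _ _), hacth _ _ (snd _ _), hacth _ _ (snd _ _), b.α_δ, _root_.mul_assoc] }
  refine ⟨inst, ⟨⟨⟨lift d (snd X X), ?_, ?_⟩⟩, Presieve.singleton X.hom, ?_, ?_⟩, fun s => ?_⟩
  · show lift act (snd G X) ≫ _ = _
    refine (comp_lift _ _ _).trans ?_
    rw [lift_snd]
    conv_rhs => rw [← lift_fst_snd (X := G) (Y := X)]
    congr 1
    refine hom_ext D _ _ ?_ ?_
    · rw [comp_lift_assoc]
      have : fst (G ⊗ X) (S' φ) ≫ act = lift (fst _ _ ≫ fst G X) (fst _ _ ≫ snd G X) ≫ act := by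
        rw [← comp_lift, lift_fst_snd, Category.comp_id]
      rw [this, hactu _ _ (snd _ _)]
      have hd' : ∀ {T : Over (Spec (CommRingCat.of A))} (y y' : T ⟶ X) (s : T ⟶ S' φ),
          lift y y' ≫ d = (lift y s ≫ a.δ) * (lift y' s ≫ a.δ)⁻¹ := fun {T} y y' s => by
        rw [show lift y y' ≫ d = lift (lift y y') s ≫ ud by rw [← hda, lift_fst_assoc]]
        simp only [ud, comp_mul, comp_inv, comp_lift_assoc, lift_fst_assoc, lift_fst, lift_snd]
      rw [hd' _ _ (snd _ _), a.α_δ, _root_.mul_inv_cancel_right]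
    · rw [comp_lift_assoc]
      have : fst (G ⊗ X) (S₁ t) ≫ act = lift (fst _ _ ≫ fst G X) (fst _ _ ≫ snd G X) ≫ act := by
        rw [← comp_lift, lift_fst_snd, Category.comp_id]
      rw [this, hacth _ _ (snd _ _)]
      have hd' : ∀ {T : Over (Spec (CommRingCat.of A))} (y y' : T ⟶ X) (s : T ⟶ S₁ t),
          lift y y' ≫ d = (lift y s ≫ b.δ) * (lift y' s ≫ b.δ)⁻¹ := fun {T} y y' s => by
        rw [show lift y y' ≫ d = lift (lift y y') s ≫ hd by rw [← hdb, lift_fst_assoc]]
        simp only [hd, comp_mul, comp_inv, comp_lift_assoc, lift_fst_assoc, lift_fst, lift_snd]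
      rw [hd' _ _ (snd _ _), b.α_δ, _root_.mul_inv_cancel_right]
  · show lift d (snd X X) ≫ lift act (snd G X) = _
    refine (comp_lift _ _ _).trans ?_
    rw [lift_snd]
    conv_rhs => rw [← lift_fst_snd (X := X) (Y := X)]
    congr 1
    refine hom_ext D _ _ ?_ ?_
    · rw [comp_lift_assoc, hactu _ _ (snd _ _), hda]
      simp only [ud, _root_.inv_mul_cancel_right]
      exact a.δ_α _ _
    · rw [comp_lift_assoc, hacth _ _ (snd _ _), hdb]
      simp only [hd, _root_.inv_mul_cancel_right]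
      exact b.δ_α _ _
  · exact (Scheme.singleton_mem_precoverage_iff (P := @Flat ⊓ @LocallyOfFinitePresentation) X.hom).2
      ⟨X.hom.surjective, ⟨inferInstance, inferInstance⟩⟩
  · rintro T f ⟨⟩
    exact ⟨𝟙 _, Category.id_comp _⟩
  · let g₁ : S₁ t ⟶ G := lift (toUnit _ ≫ s) (𝟙 _) ≫ b.δ
    let g₂ : S' φ ⟶ G := lift (toUnit _ ≫ s) (𝟙 _) ≫ a.δ
    refine ⟨g₁, g₂⁻¹, ?_⟩
    have e1 : νo φ t ≫ g₁ = lift (toUnit _ ≫ s) (𝟙 _ ≫ νo φ t) ≫ b.δ := by
      rw [comp_lift_assoc, ← Category.assoc, toUnit_unique (νo φ t ≫ toUnit _) (toUnit _),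
        Category.comp_id, Category.id_comp]
    have e2 : νc φ t ≫ g₂ = lift (toUnit _ ≫ s) (𝟙 _ ≫ νc φ t) ≫ a.δ := by
      rw [comp_lift_assoc, ← Category.assoc, toUnit_unique (νc φ t ≫ toUnit _) (toUnit _),
        Category.comp_id, Category.id_comp]
    rw [comp_inv, e1, e2, hδ, _root_.inv_mul_cancel_left, Category.id_comp]

end Groth.Agent.BLTorsor
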