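import Groth.Agent.BLTorsor.Glue
import Groth.Agent.S10727
import Groth.Agent.S10723
import Groth.Agent.AlgSpEN.GlueHom.Algebra
import Groth.Agent.AlgSp.DescentAffine

/-!
# The affine model glued from two trivial pieces
-/

set_option autoImplicit false
set_option backward.isDefEq.respectTransparency false
set_option backward.isDefEq.respectTransparency.types false

universe u

open CategoryTheory MonoidalCategory CartesianMonoidalCategory MonObj GrpObj AlgebraicGeometry
open CategoryTheory.Limits
open scoped TensorProduct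

noncomputable section

namespace Groth.Agent.BLTorsor

open Groth.Agent.G0Patch

variable {R R' : Type u} [CommRing R] [CommRing R'] [Algebra R R'] (f : R)

/-- A glueing pair is a glueing datum. -/
theorem blData_of_glueingPair (hp : EtGlue.IsGlueingPair R R' f) : BLData (algebraMap R R') f where
  hq m := by
    have e : Ideal.span {f} ^ m = Ideal.span {f ^ m} := Ideal.span_singleton_pow f m
    rw [e]
    rcases Nat.eq_zero_or_pos m with rfl | hm
    · haveI : Subsingleton (R ⧸ Ideal.span {f ^ 0}) := by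
        rw [Ideal.Quotient.subsingleton_iff, pow_zero, Ideal.span_singleton_one]
      haveI : Subsingleton (R' ⧸ Ideal.map (algebraMap R R') (Ideal.span {f ^ 0})) := by
        rw [Ideal.Quotient.subsingleton_iff, pow_zero, Ideal.span_singleton_one, Ideal.map_top]
      exact ⟨fun x y _ => Subsingleton.elim x y, fun y => ⟨0, Subsingleton.elim _ _⟩⟩
    · exact hp.1 m hm
  htor a' ha' := by
    obtain ⟨h1, h2⟩ := (Groth.Agent.EtGlueLib.isGlueingPair_iff hp.1).mp hp
    obtain ⟨x, hx, rfl⟩ := h2 a' ha'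
    refine ⟨x, ⟨hx, rfl⟩, fun y hy => ?_⟩
    obtain ⟨⟨n, hn⟩, e⟩ := hy
    obtain ⟨k, hk⟩ := hx
    refine sub_eq_zero.1 (h1 _ ⟨n + k, ?_⟩ (by rw [map_sub, e, sub_self]))
    rw [pow_add, mul_sub, mul_comm (f ^ n), _root_.mul_assoc, hn, mul_comm (f ^ k) (f ^ n), _root_.mul_assoc, hk]
    simp

/-- Open immersions onto preimages give cartesian squares. -/
theorem isPullback_away {C C₀ C' C₀' : Type u} [CommRing C] [CommRing C₀] [CommRing C'] [CommRing C₀']
    [Algebra C C'] [Algebra C₀ C₀'] (c : C₀) [IsLocalization.Away c C₀'] (κ : C₀ →+* C)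
    [IsLocalization.Away (κ c) C'] (l : Spec (CommRingCat.of C') ⟶ Spec (CommRingCat.of C₀'))
    (hl : sp (algebraMap C C') ≫ sp κ = l ≫ sp (algebraMap C₀ C₀')) :
    IsPullback (sp (algebraMap C C')) l (sp κ) (sp (algebraMap C₀ C₀')) := by
  haveI : IsOpenImmersion (sp (algebraMap C C')) := IsOpenImmersion.of_isLocalization (κ c)
  haveI : IsOpenImmersion (sp (algebraMap C₀ C₀')) := IsOpenImmersion.of_isLocalization c
  refine (IsOpenImmersion.isPullback l (sp (algebraMap C C')) (sp (algebraMap C₀ C₀')) (sp κ)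
    hl ?_).flip
  refine TopologicalSpace.Opens.ext (Set.ext fun z => ?_)
  show z ∈ (sp κ).base ⁻¹' Set.range (PrimeSpectrum.comap (algebraMap C₀ C₀')) ↔
    z ∈ Set.range (PrimeSpectrum.comap (algebraMap C C'))
  rw [PrimeSpectrum.localization_away_comap_range C' (κ c), Set.mem_preimage,
    PrimeSpectrum.localization_away_comap_range C₀' c]
  rfl

variable {A : Type u} [CommRing A] [Algebra R A]

local notation "𝒢" => Over.mk (sp (algebraMap R A))

local notation "L'" => L (algebraMap R R') f

variable {G : Over (Spec (CommRingCat.of R))} [GrpObj G]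

/-- Right translation by `h` on the trivial object over the overlap. -/
def transl (h : L' ⟶ G) : (G ⊗ L') ⟶ (G ⊗ L') :=
  lift (fst _ _ * (snd _ _ ≫ h)) (snd _ _)

theorem lift_transl (h : L' ⟶ G)
    {T : Over (Spec (CommRingCat.of R))} (x : T ⟶ G) (w : T ⟶ L') :
    lift x w ≫ transl f h = lift (x * (w ≫ h)) w := by
  simp [transl, comp_lift, comp_mul, lift_fst, lift_snd, lift_snd_assoc]

/-- Right translation is an isomorphism. -/
def translIso (h : L' ⟶ G) : (G ⊗ L') ≅ (G ⊗ L') where
  hom := transl f h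
  inv := transl f h⁻¹
  hom_inv_id := by
    conv_lhs => rw [show transl f h = lift (fst _ _ * (snd _ _ ≫ h)) (snd _ _) from rfl]
    rw [lift_transl, comp_inv, _root_.mul_inv_cancel_right, lift_fst_snd]
  inv_hom_id := by
    conv_lhs => rw [show transl f h⁻¹ = lift (fst _ _ * (snd _ _ ≫ h⁻¹)) (snd _ _) from rfl]
    rw [lift_transl, comp_inv, _root_.inv_mul_cancel_right, lift_fst_snd]

set_option maxHeartbeats 1600000 in
/-- The glued affine object. -/
theorem exists_model (hp : EtGlue.IsGlueingPair R R' f)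
    [Flat (sp (algebraMap R A))] [LocallyOfFinitePresentation (sp (algebraMap R A))]
    (eG : G ≅ Over.mk (sp (algebraMap R A))) (g : L' ⟶ G) :
    ∃ (X : Over (Spec (CommRingCat.of R))) (a : Triv G X (S' (algebraMap R R'))) (b : Triv G X (S₁ f)),
      Flat X.hom ∧ LocallyOfFinitePresentation X.hom ∧ Surjective X.hom ∧
      ∀ {T : Over (Spec (CommRingCat.of R))} (x : T ⟶ G) (w : T ⟶ L'),
        lift x (w ≫ νc (algebraMap R R') f) ≫ a.α =
          lift (x * (w ≫ g)) (w ≫ νo (algebraMap R R') f) ≫ b.α := by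
  let Rf := Localization.Away f
  let Lr := Localization.Away (algebraMap R R' f)
  let A₁ := Localization.Away (algebraMap R A f)
  let A' := R' ⊗[R] A
  let Ar := Localization.Away (algebraMap R A' f)
  haveI : IsLocalization.Away ((algebraMap R' A') (algebraMap R R' f)) Ar := by
    rw [← IsScalarTower.algebraMap_apply R R' A']
    infer_instance
  let jA := sp (algebraMap A A₁)
  let t₁ : Spec (CommRingCat.of A₁) ⟶ Spec (CommRingCat.of Rf) :=
    sp (Localization.awayMap (algebraMap R A) f)
  have sqA₁ : IsPullback jA t₁ (sp (algebraMap R A)) (BLData.jt f) :=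
    isPullback_away f (algebraMap R A) t₁ (by
      rw [← Spec.map_comp, ← Spec.map_comp, ← CommRingCat.ofHom_comp, ← CommRingCat.ofHom_comp,
        locMap_comp'])
  let qA : Spec (CommRingCat.of A') ⟶ Spec (CommRingCat.of A) :=
    sp (Algebra.TensorProduct.includeRight (R := R) (A := R') (B := A)).toRingHom
  have sqA' : IsPullback qA (sp (algebraMap R' A')) (sp (algebraMap R A)) (sp (algebraMap R R')) :=
    (AlgSp.isPullback_tensor R R' A).flip
  let κr : Spec (CommRingCat.of Ar) ⟶ Spec (CommRingCat.of Lr) :=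
    sp (IsLocalization.Away.lift (S := Lr) (algebraMap R R' f)
      (g := (algebraMap A' Ar).comp (algebraMap R' A'))
      (by rw [RingHom.comp_apply]; exact IsLocalization.Away.algebraMap_isUnit _))
  have hκr : sp (algebraMap A' Ar) ≫ sp (algebraMap R' A') = κr ≫ sp (algebraMap R' Lr) := by
    simp only [κr, ← Spec.map_comp, ← CommRingCat.ofHom_comp, IsLocalization.Away.lift_comp]
  have sqr : IsPullback (sp (algebraMap A' Ar)) κr (sp (algebraMap R' A')) (sp (algebraMap R' Lr)) :=
    isPullback_away (algebraMap R R' f) (algebraMap R' A') κr hκr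
  have sqE : IsPullback (sp (algebraMap A' Ar) ≫ qA) κr (𝒢).hom (L').hom := sqr.paste_horiz sqA'
  -- the overlap as a tensor product
  let qT : Spec (CommRingCat.of (R' ⊗[R] A₁)) ⟶ Spec (CommRingCat.of A₁) :=
    sp (Algebra.TensorProduct.includeRight (R := R) (A := R') (B := A₁)).toRingHom
  have sqT : IsPullback qT (sp (algebraMap R' (R' ⊗[R] A₁))) (sp (algebraMap R A₁))
      (sp (algebraMap R R')) := (AlgSp.isPullback_tensor R R' A₁).flip
  let νo' : Spec (CommRingCat.of Lr) ⟶ Spec (CommRingCat.of Rf) :=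
    sp (Localization.awayMap (algebraMap R R') f)
  have sqL : IsPullback (sp (algebraMap R' Lr)) νo' (sp (algebraMap R R')) (BLData.jt f) :=
    isPullback_away f (algebraMap R R') νo' (by
      rw [← Spec.map_comp, ← Spec.map_comp, ← CommRingCat.ofHom_comp, ← CommRingCat.ofHom_comp,
        locMap_comp'])
  have hA₁ : t₁ ≫ BLData.jt f = sp (algebraMap R A₁) := by
    rw [← sqA₁.w, ← Spec.map_comp, ← CommRingCat.ofHom_comp, ← IsScalarTower.algebraMap_eq]
  let lT : Spec (CommRingCat.of (R' ⊗[R] A₁)) ⟶ Spec (CommRingCat.of Lr) :=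
    sqL.lift (sp (algebraMap R' (R' ⊗[R] A₁))) (qT ≫ t₁) (by rw [Category.assoc, hA₁, sqT.w])
  have hlT₁ : lT ≫ sp (algebraMap R' Lr) = sp (algebraMap R' (R' ⊗[R] A₁)) := sqL.lift_fst _ _ _
  have hlT₂ : lT ≫ νo' = qT ≫ t₁ := sqL.lift_snd _ _ _
  have sqT' : IsPullback qT lT t₁ νo' := by
    refine IsPullback.of_bot (v₂₁ := sp (algebraMap R' Lr)) (v₂₂ := BLData.jt f) (h₃₁ := sp (algebraMap R R'))
      ?_ hlT₂.symm sqL.flip
    rw [hlT₁, hA₁]
    exact sqT
  have hLhom : νo' ≫ BLData.jt f = (L').hom := sqL.w.symm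
  have sqE' : IsPullback (qT ≫ jA) lT (𝒢).hom (L').hom := by
    have := sqT'.paste_horiz sqA₁
    rwa [hLhom] at this
  let E : Spec (CommRingCat.of Ar) ≅ (𝒢 ⊗ L').left := sqE.isoPullback
  let E' : Spec (CommRingCat.of (R' ⊗[R] A₁)) ≅ (𝒢 ⊗ L').left := sqE'.isoPullback
  let τ : (𝒢 ⊗ L') ≅ (𝒢 ⊗ L') :=
    whiskerRightIso eG.symm L' ≪≫ translIso f g⁻¹ ≪≫ whiskerRightIso eG L'
  let ψ : Spec (CommRingCat.of (R' ⊗[R] A₁)) ≅ Spec (CommRingCat.of Ar) :=
    E' ≪≫ (Over.forget _).mapIso τ ≪≫ E.symm
  have hE₂ : E.hom ≫ (snd 𝒢 L').left = κr := sqE.isoPullback_hom_snd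
  have hE'₂ : E'.hom ≫ (snd 𝒢 L').left = lT := sqE'.isoPullback_hom_snd
  have hτ₂ : τ.hom ≫ snd 𝒢 L' = snd 𝒢 L' := by
    simp [τ, translIso, transl, lift_snd]
  have hψ : ψ.hom ≫ sp (algebraMap A' Ar) ≫ sp (algebraMap R' A') = sp (algebraMap R' (R' ⊗[R] A₁)) := by
    rw [hκr, ← hE₂, ← hlT₁, ← hE'₂]
    simp only [ψ, Iso.trans_hom, Iso.symm_hom, Functor.mapIso_hom, Over.forget_map, Category.assoc,
      Iso.inv_hom_id_assoc]
    rw [← Over.comp_left_assoc, hτ₂]
  let φ₀ : Ar ≃+* R' ⊗[R] A₁ :=
    RingEquiv.ofRingHom (Spec.preimage ψ.hom).hom (Spec.preimage ψ.inv).hom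
      (by
        refine congrArg CommRingCat.Hom.hom (Spec.map_injective (a₁ := Spec.preimage ψ.inv ≫ Spec.preimage ψ.hom)
          (a₂ := 𝟙 _) ?_)
        rw [Spec.map_comp, Spec.map_preimage, Spec.map_preimage, Iso.hom_inv_id, Spec.map_id])
      (by
        refine congrArg CommRingCat.Hom.hom (Spec.map_injective (a₁ := Spec.preimage ψ.hom ≫ Spec.preimage ψ.inv)
          (a₂ := 𝟙 _) ?_)
        rw [Spec.map_comp, Spec.map_preimage, Spec.map_preimage, Iso.inv_hom_id, Spec.map_id])
  have hφ₀ : sp φ₀.toRingHom = ψ.hom := Spec.map_preimage ψ.hom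
  have hcomm : ∀ c : R', φ₀ (algebraMap R' Ar c) = algebraMap R' (R' ⊗[R] A₁) c := by
    have e : φ₀.toRingHom.comp ((algebraMap A' Ar).comp (algebraMap R' A')) =
        algebraMap R' (R' ⊗[R] A₁) := by
      have h : sp (φ₀.toRingHom.comp ((algebraMap A' Ar).comp (algebraMap R' A'))) =
          sp (algebraMap R' (R' ⊗[R] A₁)) := by
        rw [← hψ, ← hφ₀, ← Spec.map_comp, ← Spec.map_comp, ← CommRingCat.ofHom_comp,
          ← CommRingCat.ofHom_comp]
      exact congrArg CommRingCat.Hom.hom (Spec.map_injective h)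
    intro c
    rw [IsScalarTower.algebraMap_apply R' A' Ar]
    exact RingHom.congr_fun e c
  let φ : Ar ≃ₐ[R'] R' ⊗[R] A₁ := AlgEquiv.ofRingEquiv (f := φ₀) hcomm
  have hunit : IsUnit (algebraMap R A₁ f) := by
    rw [IsScalarTower.algebraMap_apply R A A₁]
    exact IsLocalization.Away.algebraMap_isUnit _
  obtain ⟨B, _, _, hB, e₁, e', hcompat⟩ := S10727.result R R' f hp A₁ hunit A' φ
  let X : Over (Spec (CommRingCat.of R)) := Over.mk (sp (algebraMap R B))
  let qα : Spec (CommRingCat.of A') ⟶ Spec (CommRingCat.of B) :=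
    sp (e'.toAlgHom.toRingHom.comp (Algebra.TensorProduct.includeRight (R := R) (A := R') (B := B)).toRingHom)
  let Bf := Localization.Away (algebraMap R B f)
  let qβ : Spec (CommRingCat.of A₁) ⟶ Spec (CommRingCat.of B) :=
    sp (e₁.toAlgHom.toRingHom.comp (algebraMap B Bf))
  have sqX' : IsPullback qα (sp (algebraMap R' A')) X.hom (sp (algebraMap R R')) := by
    refine IsPullback.of_iso (AlgSp.isPullback_tensor R R' B).flip
      (Scheme.Spec.mapIso e'.symm.toRingEquiv.toCommRingCatIso.op) (Iso.refl _) (Iso.refl _) (Iso.refl _)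
      ?_ ?_ (by simp [X]) (by simp)
    · simp only [Iso.refl_hom, Category.comp_id, Functor.mapIso_hom, Iso.op_hom]
      change Spec.map _ = Spec.map _ ≫ Spec.map _
      rw [← Spec.map_comp]
      congr 1
      ext z
      exact (e'.symm_apply_apply _).symm
    · simp only [Iso.refl_hom, Category.comp_id, Functor.mapIso_hom, Iso.op_hom]
      change Spec.map _ = Spec.map _ ≫ Spec.map _
      rw [← Spec.map_comp]
      congr 1
      ext z
      exact (e'.symm.commutes z).symm
  let t₀ : Spec (CommRingCat.of Bf) ⟶ Spec (CommRingCat.of Rf) :=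
    sp (Localization.awayMap (algebraMap R B) f)
  have sqB : IsPullback (sp (algebraMap B Bf)) t₀ X.hom (BLData.jt f) :=
    isPullback_away f (algebraMap R B) t₀ (by
      rw [← Spec.map_comp, ← Spec.map_comp, ← CommRingCat.ofHom_comp, ← CommRingCat.ofHom_comp,
        locMap_comp'])
  haveI : Mono (BLData.jt f) := by
    have : IsOpenImmersion (BLData.jt f) := IsOpenImmersion.of_isLocalization f
    infer_instance
  have sqX₁ : IsPullback qβ t₁ X.hom (BLData.jt f) := by
    refine IsPullback.of_iso sqB (Scheme.Spec.mapIso e₁.symm.toRingEquiv.toCommRingCatIso.op)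
      (Iso.refl _) (Iso.refl _) (Iso.refl _) ?_ ?_ (by simp) (by simp)
    · simp only [Iso.refl_hom, Category.comp_id, Functor.mapIso_hom, Iso.op_hom]
      change Spec.map _ = Spec.map _ ≫ Spec.map _
      rw [← Spec.map_comp]
      congr 1
      ext z
      exact (e₁.symm_apply_apply _).symm
    · simp only [Iso.refl_hom, Category.comp_id, Functor.mapIso_hom, Iso.op_hom]
      rw [← cancel_mono (BLData.jt f), Category.assoc, hA₁, ← sqB.w]
      change Spec.map _ ≫ Spec.map _ = Spec.map _ ≫ Spec.map _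
      rw [← Spec.map_comp, ← Spec.map_comp]
      congr 1
      ext z
      exact (IsScalarTower.algebraMap_apply R B Bf z).symm.trans (e₁.symm.commutes z).symm
  let PA := sqA'.isoPullback
  let P₁ := sqA₁.isoPullback
  let α : 𝒢 ⊗ S' (algebraMap R R') ⟶ X := Over.homMk (PA.inv ≫ qα) (by
    rw [Category.assoc, sqX'.w, IsPullback.isoPullback_inv_snd_assoc]
    exact pullback.condition.symm)
  let β : 𝒢 ⊗ S₁ f ⟶ X := Over.homMk (P₁.inv ≫ qβ) (by
    rw [Category.assoc, sqX₁.w, IsPullback.isoPullback_inv_snd_assoc]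
    exact pullback.condition.symm)
  haveI hαi : IsIso (lift α (snd 𝒢 (S' (algebraMap R R')))) := by
    have : IsIso (lift α (snd 𝒢 (S' (algebraMap R R')))).left := by
      have e : (lift α (snd 𝒢 (S' (algebraMap R R')))).left = PA.inv ≫ sqX'.isoPullback.hom := by
        refine pullback.hom_ext ((congrArg CommaMorphism.left (lift_fst α (snd 𝒢 _)) :).trans ?_)
          ((congrArg CommaMorphism.left (lift_snd α (snd 𝒢 _)) :).trans ?_)
        · exact (((Category.assoc _ _ _).trans (congrArg (PA.inv ≫ ·) sqX'.isoPullback_hom_fst)) :).symm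
        · exact (((Category.assoc _ _ _).trans ((congrArg (PA.inv ≫ ·) sqX'.isoPullback_hom_snd).trans
            (IsPullback.isoPullback_inv_snd _))) :).symm
      rw [e]
      infer_instance
    haveI : IsIso ((Over.forget _).map (lift α (snd 𝒢 (S' (algebraMap R R'))))) := this
    exact isIso_of_reflects_iso _ (Over.forget _)
  haveI hβi : IsIso (lift β (snd 𝒢 (S₁ f))) := by
    have : IsIso (lift β (snd 𝒢 (S₁ f))).left := by
      have e : (lift β (snd 𝒢 (S₁ f))).left = P₁.inv ≫ sqX₁.isoPullback.hom := by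
        refine pullback.hom_ext ((congrArg CommaMorphism.left (lift_fst β (snd 𝒢 _)) :).trans ?_)
          ((congrArg CommaMorphism.left (lift_snd β (snd 𝒢 _)) :).trans ?_)
        · exact (((Category.assoc _ _ _).trans (congrArg (P₁.inv ≫ ·) sqX₁.isoPullback_hom_fst)) :).symm
        · exact (((Category.assoc _ _ _).trans ((congrArg (P₁.inv ≫ ·) sqX₁.isoPullback_hom_snd).trans
            (IsPullback.isoPullback_inv_snd _))) :).symm
      rw [e]
      infer_instance
    haveI : IsIso ((Over.forget _).map (lift β (snd 𝒢 (S₁ f)))) := this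
    exact isIso_of_reflects_iso _ (Over.forget _)
  -- flatness and finite presentation
  have hfl₁ : Flat t₁ := MorphismProperty.of_isPullback sqA₁ ‹_›
  have hfp₁ : LocallyOfFinitePresentation t₁ := MorphismProperty.of_isPullback sqA₁ ‹_›
  have hfl' : Flat (sp (algebraMap R' A')) := MorphismProperty.of_isPullback sqA' ‹_›
  have hfp' : LocallyOfFinitePresentation (sp (algebraMap R' A')) :=
    MorphismProperty.of_isPullback sqA' ‹_›
  have ha' : (algebraMap R' (R' ⊗[R] B)).Flat ∧ (algebraMap R' (R' ⊗[R] B)).FinitePresentation := by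
    have he : algebraMap R' (R' ⊗[R] B) = e'.symm.toRingEquiv.toRingHom.comp (algebraMap R' A') :=
      RingHom.ext fun z => (e'.symm.commutes z).symm
    rw [he]
    exact ⟨((HasRingHomProperty.Spec_iff (P := @Flat)).1 hfl').comp
        (RingHom.Flat.of_bijective e'.symm.bijective),
      (RingHom.FinitePresentation.of_bijective e'.symm.bijective).comp
        ((HasRingHomProperty.Spec_iff (P := @LocallyOfFinitePresentation)).1 hfp')⟩
  have ha₁ : (Localization.awayMap (algebraMap R B) f).Flat ∧
      (Localization.awayMap (algebraMap R B) f).FinitePresentation := by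
    have he : Localization.awayMap (algebraMap R B) f =
        e₁.symm.toRingEquiv.toRingHom.comp (Localization.awayMap (algebraMap R A) f) := by
      refine IsLocalization.ringHom_ext (Submonoid.powers f) ?_
      rw [locMap_comp', RingHom.comp_assoc, locMap_comp', ← IsScalarTower.algebraMap_eq R B Bf,
        ← IsScalarTower.algebraMap_eq R A A₁]
      exact RingHom.ext fun z => (e₁.symm.commutes z).symm
    rw [he]
    exact ⟨((HasRingHomProperty.Spec_iff (P := @Flat)).1 hfl₁).comp
        (RingHom.Flat.of_bijective e₁.symm.bijective),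
      (RingHom.FinitePresentation.of_bijective e₁.symm.bijective).comp
        ((HasRingHomProperty.Spec_iff (P := @LocallyOfFinitePresentation)).1 hfp₁)⟩
  have hflat : (algebraMap R B).Flat ∧ (algebraMap R B).FinitePresentation := by
    refine (S10723.result R R' f hp R B (AlgSpEN.GlueHom.isGlueable_base hp) hB (Algebra.ofId R B)).2
      ⟨ha₁, ?_⟩
    have he : (Algebra.TensorProduct.map (AlgHom.id R R') (Algebra.ofId R B)).toRingHom =
        (algebraMap R' (R' ⊗[R] B)).comp
          (Algebra.TensorProduct.rid R R' R').toRingEquiv.toRingHom := by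
      refine RingHom.ext fun z => ?_
      induction z using TensorProduct.induction_on with
      | zero => simp
      | tmul c s =>
        show Algebra.TensorProduct.map _ _ (c ⊗ₜ[R] s) =
          algebraMap R' (R' ⊗[R] B) (Algebra.TensorProduct.rid R R' R' (c ⊗ₜ[R] s))
        rw [Algebra.TensorProduct.map_tmul, Algebra.TensorProduct.rid_tmul,
          Algebra.TensorProduct.algebraMap_apply, AlgHom.id_apply]
        show c ⊗ₜ[R] algebraMap R B s = (s • c) ⊗ₜ[R] (1 : B)
        rw [TensorProduct.smul_tmul, Algebra.algebraMap_eq_smul_one]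
      | add z z' h h' => simp only [map_add, h, h']
    rw [he]
    exact ⟨(RingHom.Flat.of_bijective (Algebra.TensorProduct.rid R R' R').bijective).comp ha'.1,
      ha'.2.comp (RingHom.FinitePresentation.of_bijective (Algebra.TensorProduct.rid R R' R').bijective)⟩
  haveI : Flat X.hom := (HasRingHomProperty.Spec_iff (P := @Flat)).2 hflat.1
  haveI : LocallyOfFinitePresentation X.hom :=
    (HasRingHomProperty.Spec_iff (P := @LocallyOfFinitePresentation)).2 hflat.2
  have hwh : ∀ {P : Over (Spec (CommRingCat.of R))} (γ : 𝒢 ⊗ P ⟶ X) [IsIso (lift γ (snd 𝒢 P))],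
      IsIso (lift ((eG.hom ▷ P) ≫ γ) (snd G P)) := fun {P} γ _ => by
    have e : lift ((eG.hom ▷ P) ≫ γ) (snd G P) = (eG.hom ▷ P) ≫ lift γ (snd 𝒢 P) := by simp [comp_lift]
    rw [e]
    haveI : IsIso (eG.hom ▷ P) := (whiskerRightIso eG P).isIso_hom
    infer_instance
  refine ⟨X, ⟨(eG.hom ▷ _) ≫ α, hwh α⟩, ⟨(eG.hom ▷ _) ≫ β, hwh β⟩, inferInstance, inferInstance,
    ⟨fun p => ?_⟩, fun {T} x₀ w => ?_⟩
  · -- surjectivity
    have hcov : (∃ q, (sp (algebraMap R R')).base q = p) ∨ ∃ q, (BLData.jt f).base q = p := by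
      by_cases hf : f ∈ p.asIdeal
      · left
        let e := RingEquiv.ofBijective _ (hp.1 1 one_pos)
        let ρ : R' →+* R ⧸ Ideal.span {f ^ 1} := e.symm.toRingHom.comp (Ideal.Quotient.mk _)
        have hρ : ρ.comp (algebraMap R R') = Ideal.Quotient.mk _ := RingHom.ext fun z => by
          show e.symm (Ideal.Quotient.mk _ (algebraMap R R' z)) = Ideal.Quotient.mk _ z
          rw [RingEquiv.symm_apply_eq]
          rfl
        obtain ⟨w', hw'⟩ := (Set.ext_iff.mp (range_comap_of_surjective (R ⧸ Ideal.span {f ^ 1})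
          (Ideal.Quotient.mk _) Ideal.Quotient.mk_surjective) p).mpr ((PrimeSpectrum.mem_zeroLocus _ _).mpr (by
            rw [Ideal.mk_ker, SetLike.coe_subset_coe, Ideal.span_singleton_le_iff_mem, pow_one]; exact hf))
        refine ⟨PrimeSpectrum.comap ρ w', ?_⟩
        show PrimeSpectrum.comap (algebraMap R R') (PrimeSpectrum.comap ρ w') = p
        rw [← PrimeSpectrum.comap_comp_apply, hρ, hw']
      · right
        exact (Set.ext_iff.mp (PrimeSpectrum.localization_away_comap_range (Localization.Away f) f) p).mpr hf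
    rcases hcov with ⟨q, hq⟩ | ⟨q, hq⟩
    · refine ⟨(lift (toUnit _ ≫ η[G] ≫ eG.hom) (𝟙 (S' (algebraMap R R'))) ≫ α).left q, ?_⟩
      rw [← Scheme.Hom.comp_apply, Over.w]
      exact hq
    · refine ⟨(lift (toUnit _ ≫ η[G] ≫ eG.hom) (𝟙 (S₁ f)) ≫ β).left q, ?_⟩
      rw [← Scheme.Hom.comp_apply, Over.w]
      exact hq
  · have key : ψ.hom ≫ sp (algebraMap A' Ar) ≫ qα = qT ≫ qβ := by
      rw [← hφ₀]
      change Spec.map _ ≫ Spec.map _ ≫ Spec.map _ = Spec.map _ ≫ Spec.map _
      simp only [← Spec.map_comp]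
      congr 1
      ext z
      exact hcompat z
    obtain ⟨x, hx⟩ : ∃ x, x = x₀ ≫ eG.hom := ⟨_, rfl⟩
    obtain ⟨x', hx'⟩ : ∃ x', x' = (x₀ * (w ≫ g)) ≫ eG.hom := ⟨_, rfl⟩
    have hl : ∀ {P : Over (Spec (CommRingCat.of R))} (z : T ⟶ G) (s : T ⟶ P),
        lift z s ≫ (eG.hom ▷ P) = lift (z ≫ eG.hom) s := fun z s => by
      apply CartesianMonoidalCategory.hom_ext <;> simp
    rw [← Category.assoc, hl, ← Category.assoc, hl, ← hx, ← hx']
    have hz : lift x w = lift x' w ≫ τ.hom := by
      have h0 : lift x' w ≫ (eG.inv ▷ L') = lift (x₀ * (w ≫ g)) w := by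
        apply CartesianMonoidalCategory.hom_ext <;> simp [hx']
      simp only [τ, Iso.trans_hom, whiskerRightIso_hom, Iso.symm_hom, ← Category.assoc, h0]
      rw [show (translIso f g⁻¹).hom = transl f g⁻¹ from rfl, lift_transl, comp_inv,
        _root_.mul_inv_cancel_right, hl, ← hx]
    let y : T.left ⟶ Spec (CommRingCat.of (R' ⊗[R] A₁)) := (lift x' w).left ≫ E'.inv
    have hy : (lift x w).left ≫ E.inv = y ≫ ψ.hom := by
      simp only [y, ψ, hz, Over.comp_left, Iso.trans_hom, Iso.symm_hom, Functor.mapIso_hom,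
        Over.forget_map, Category.assoc, Iso.inv_hom_id_assoc]
    have hα : (lift x (w ≫ νc (algebraMap R R') f)).left ≫ PA.inv =
        (lift x w).left ≫ E.inv ≫ sp (algebraMap A' Ar) := by
      refine sqA'.hom_ext ?_ ?_
      · simp only [Category.assoc]
        rw [IsPullback.isoPullback_inv_fst, sqE.isoPullback_inv_fst]
        exact ((congrArg CommaMorphism.left (lift_fst x (w ≫ νc (algebraMap R R') f)) :).trans
          (congrArg CommaMorphism.left (lift_fst x w)).symm :)
      · simp only [Category.assoc]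
        rw [IsPullback.isoPullback_inv_snd, hκr, sqE.isoPullback_inv_snd_assoc]
        exact ((congrArg CommaMorphism.left (lift_snd x (w ≫ νc (algebraMap R R') f)) :).trans
          ((congrArg (· ≫ sp (algebraMap R' Lr)) (congrArg CommaMorphism.left (lift_snd x w)) :).symm.trans
            (Category.assoc _ _ _)) :)
    have hβ : (lift x' (w ≫ νo (algebraMap R R') f)).left ≫ P₁.inv =
        (lift x' w).left ≫ E'.inv ≫ qT := by
      refine sqA₁.hom_ext ?_ ?_
      · simp only [Category.assoc]
        rw [IsPullback.isoPullback_inv_fst, sqE'.isoPullback_inv_fst]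
        exact ((congrArg CommaMorphism.left (lift_fst x' (w ≫ νo (algebraMap R R') f)) :).trans
          (congrArg CommaMorphism.left (lift_fst x' w)).symm :)
      · simp only [Category.assoc]
        rw [IsPullback.isoPullback_inv_snd, ← hlT₂, sqE'.isoPullback_inv_snd_assoc]
        exact ((congrArg CommaMorphism.left (lift_snd x' (w ≫ νo (algebraMap R R') f)) :).trans
          ((congrArg (· ≫ νo') (congrArg CommaMorphism.left (lift_snd x' w)) :).symm.trans
            (Category.assoc _ _ _)) :)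
    refine Over.OverMorphism.ext ?_
    show (lift x (w ≫ νc (algebraMap R R') f)).left ≫ PA.inv ≫ qα =
      (lift x' (w ≫ νo (algebraMap R R') f)).left ≫ P₁.inv ≫ qβ
    rw [← Category.assoc, hα, ← Category.assoc _ P₁.inv, hβ]
    simp only [Category.assoc]
    rw [← key]
    have := congrArg (fun m => m ≫ sp (algebraMap A' Ar) ≫ qα) hy
    simpa [y, Category.assoc] using this

end Groth.Agent.BLTorsor
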